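import Groth.Agent.FlatMor.K26.StabDefs
import Groth.Agent.FlatMor.K26.SemiLin
import Mathlib.Algebra.CharP.Lemmas
import Mathlib.RingTheory.MvPolynomial.Basic
import Mathlib.RingTheory.LocalRing.ResidueField.Basic
import Mathlib.Algebra.MvPolynomial.Monad
import Mathlib.Tactic

/-!
The Gauss valuation of a rational function field over a valuation ring with separably closed fraction field is
`p`-finite (`K26.Stab.gauss`).
-/

set_option autoImplicit false
universe u

namespace K268.Gauss

open MvPolynomial K26.Stab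

section prim

variable {R : Type u} [CommRing R] {d : ℕ}

/-- A polynomial with a unit coefficient. -/
def Prim (P : MvPolynomial (Fin d) R) : Prop := ∃ m, IsUnit (P.coeff m)

theorem prim_one [Nontrivial R] : Prim (1 : MvPolynomial (Fin d) R) := ⟨0, by simp⟩

theorem prim_iff [IsLocalRing R] (P : MvPolynomial (Fin d) R) :
    Prim P ↔ MvPolynomial.map (IsLocalRing.residue R) P ≠ 0 := by
  rw [ne_eq, MvPolynomial.ext_iff, not_forall]
  simp only [coeff_map, coeff_zero, Prim]
  refine exists_congr fun m => ?_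
  rw [IsLocalRing.residue_eq_zero_iff, IsLocalRing.mem_maximalIdeal, mem_nonunits_iff, not_not]

theorem Prim.mul [IsLocalRing R] {P Q : MvPolynomial (Fin d) R} (hP : Prim P) (hQ : Prim Q) :
    Prim (P * Q) := by
  rw [prim_iff] at *
  rw [map_mul]
  exact mul_ne_zero hP hQ

theorem Prim.prod [IsLocalRing R] {ι : Type*} (s : Finset ι) (f : ι → MvPolynomial (Fin d) R)
    (h : ∀ i ∈ s, Prim (f i)) : Prim (∏ i ∈ s, f i) :=
  Finset.prod_induction f Prim (fun _ _ => Prim.mul) prim_one h

theorem Prim.pow [IsLocalRing R] {P : MvPolynomial (Fin d) R} (h : Prim P) (n : ℕ) : Prim (P ^ n) := by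
  rw [← Finset.card_range n, ← Finset.prod_const]
  exact Prim.prod _ _ fun _ _ => h

theorem exists_prim [IsDomain R] [ValuationRing R] (P : MvPolynomial (Fin d) R) (hP : P ≠ 0) :
    ∃ (r : R) (P' : MvPolynomial (Fin d) R), r ≠ 0 ∧ Prim P' ∧ P = C r * P' := by
  classical
  -- a coefficient dividing all the others
  have key : ∀ s : Finset (Fin d →₀ ℕ), s.Nonempty → ∃ m ∈ s, ∀ n ∈ s, P.coeff m ∣ P.coeff n := by
    intro s hs
    induction hs using Finset.Nonempty.cons_induction with
    | singleton a => exact ⟨a, by simp, by simp⟩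
    | cons a s ha hs ih =>
      obtain ⟨m, hm, hmn⟩ := ih
      rcases ValuationRing.dvd_total (P.coeff m) (P.coeff a) with h | h
      · refine ⟨m, Finset.mem_cons_of_mem hm, fun n hn => ?_⟩
        rcases Finset.mem_cons.mp hn with rfl | hn
        · exact h
        · exact hmn n hn
      · refine ⟨a, Finset.mem_cons_self _ _, fun n hn => ?_⟩
        rcases Finset.mem_cons.mp hn with rfl | hn
        · exact dvd_rfl
        · exact h.trans (hmn n hn)
  have hne : P.support.Nonempty := by
    rw [Finset.nonempty_iff_ne_empty, ne_eq, MvPolynomial.support_eq_empty]; exact hP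
  obtain ⟨m, hm, hmn⟩ := key P.support hne
  have hr : P.coeff m ≠ 0 := by rwa [MvPolynomial.mem_support_iff] at hm
  have hdvd : C (P.coeff m) ∣ P := by
    rw [C_dvd_iff_dvd_coeff]
    intro n
    by_cases hn : n ∈ P.support
    · exact hmn n hn
    · rw [MvPolynomial.notMem_support_iff.mp hn]; exact dvd_zero _
  obtain ⟨P', hP'⟩ := hdvd
  refine ⟨P.coeff m, P', hr, ⟨m, ?_⟩, hP'⟩
  have h1 : P.coeff m = P.coeff m * P'.coeff m := by
    conv_lhs => rw [hP', coeff_C_mul]
  have h2 : P'.coeff m = 1 := by
    apply mul_left_cancel₀ hr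
    rw [← h1, mul_one]
  rw [h2]; exact isUnit_one

end prim

section frob

/-- `(∑ a_i) ^ p = ∑ a_i ^ p` modulo `p`. -/
theorem exists_sum_pow {A : Type*} [CommRing A] {p : ℕ} (hp : p.Prime) {ι : Type*} (s : Finset ι)
    (a : ι → A) : ∃ r : A, (∑ i ∈ s, a i) ^ p = ∑ i ∈ s, a i ^ p + (p : A) * r := by
  classical
  induction s using Finset.induction_on with
  | empty => exact ⟨0, by simp [hp.ne_zero]⟩
  | insert i s hi ih =>
    obtain ⟨r, hr⟩ := ih
    obtain ⟨r', hr'⟩ := exists_add_pow_prime_eq hp (a i) (∑ i ∈ s, a i)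
    refine ⟨r + a i * (∑ i ∈ s, a i) * r', ?_⟩
    rw [Finset.sum_insert hi, Finset.sum_insert hi, hr', hr]
    ring

variable {d p : ℕ} [hp : Fact p.Prime]

/-- The exponent `α`. -/
noncomputable def ex (α : Fin d → Fin p) : Fin d →₀ ℕ := Finsupp.equivFunOnFinite.symm fun i => (α i : ℕ)

omit hp in
theorem ex_apply (α : Fin d → Fin p) (i : Fin d) : ex α i = (α i : ℕ) := rfl

omit hp in
theorem ex_add_inj {α α' : Fin d → Fin p} {β β' : Fin d →₀ ℕ} (h : ex α + p • β = ex α' + p • β') :
    α = α' ∧ β = β' := by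
  have h1 : ∀ i, (α i : ℕ) + p * β i = α' i + p * β' i := fun i => by
    have := DFunLike.congr_fun h i
    simpa [ex_apply] using this
  have h2 : ∀ i, (α i : ℕ) = α' i := fun i => by
    have h3 := congrArg (· % p) (h1 i)
    simpa [Nat.add_mul_mod_self_left, Nat.mod_eq_of_lt (α i).2, Nat.mod_eq_of_lt (α' i).2] using h3
  refine ⟨funext fun i => Fin.ext (h2 i), Finsupp.ext fun i => ?_⟩
  have h4 := h1 i
  rw [h2 i] at h4
  have hp0 : 0 < p := lt_of_le_of_lt (Nat.zero_le _) (α i).2
  exact Nat.eq_of_mul_eq_mul_left hp0 (Nat.add_left_cancel h4)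

theorem exists_ex (m : Fin d →₀ ℕ) : ∃ (α : Fin d → Fin p) (β : Fin d →₀ ℕ), m = ex α + p • β := by
  have hp0 : 0 < p := hp.out.pos
  refine ⟨fun i => ⟨m i % p, Nat.mod_lt _ hp0⟩, Finsupp.equivFunOnFinite.symm fun i => m i / p, ?_⟩
  ext i
  simp [ex_apply, Nat.mod_add_div]

/-- `p`-independence of the monomials in characteristic `p`. -/
theorem eq_zero_of_sum {k : Type*} [Field k] [CharP k p] (P : (Fin d → Fin p) → MvPolynomial (Fin d) k)
    (h : ∑ α, monomial (ex α) 1 * P α ^ p = 0) (α : Fin d → Fin p) : P α = 0 := by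
  classical
  have : ExpChar k p := ExpChar.prime hp.out
  ext β
  rw [coeff_zero]
  have h1 := congrArg (coeff (ex α + p • β)) h
  rw [coeff_zero, coeff_sum] at h1
  have h2 : ∀ γ : Fin d → Fin p, coeff (ex α + p • β) (monomial (ex γ) 1 * P γ ^ p) =
      if γ = α then coeff β (P α) ^ p else 0 := by
    intro γ
    have h3 : P γ ^ p = ∑ m ∈ (P γ).support, monomial (p • m) (coeff m (P γ) ^ p) := by
      conv_lhs => rw [MvPolynomial.as_sum (P γ)]
      have : ExpChar (MvPolynomial (Fin d) k) p := inferInstance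
      rw [sum_pow_char p]
      exact Finset.sum_congr rfl fun m _ => monomial_pow
    rw [h3, Finset.mul_sum, coeff_sum]
    simp only [monomial_mul, one_mul, coeff_monomial]
    by_cases hγ : γ = α
    · subst hγ
      rw [if_pos rfl]
      by_cases hβ : β ∈ (P γ).support
      · rw [Finset.sum_eq_single β]
        · rw [if_pos rfl]
        · intro m _ hm
          exact if_neg fun h => hm (ex_add_inj h).2
        · intro h; exact absurd hβ h
      · rw [MvPolynomial.notMem_support_iff.mp hβ, zero_pow hp.out.ne_zero]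
        refine Finset.sum_eq_zero fun m hm => if_neg fun h => hβ ?_
        rw [← (ex_add_inj h).2]; exact hm
    · rw [if_neg hγ]
      exact Finset.sum_eq_zero fun m _ => if_neg fun h => hγ (ex_add_inj h).1
  rw [Finset.sum_congr rfl fun γ _ => h2 γ, Finset.sum_ite_eq' Finset.univ α,
    if_pos (Finset.mem_univ _)] at h1
  exact pow_eq_zero_iff hp.out.ne_zero |>.mp h1

end frob

section dec

variable {R : Type u} [CommRing R] [IsDomain R] [ValuationRing R] [IsSepClosed (FractionRing R)]

omit [ValuationRing R] [IsSepClosed (FractionRing R)] in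
theorem char_cases {p : ℕ} (hp : p.Prime) (hpu : ¬ IsUnit (p : R)) :
    CharZero (FractionRing R) ∨ (p : FractionRing R) = 0 := by
  obtain ⟨q, hq⟩ := CharP.exists (FractionRing R)
  rcases CharP.char_is_prime_or_zero (FractionRing R) q with hqp | rfl
  · right
    by_cases hpq : p = q
    · subst hpq
      exact CharP.cast_eq_zero _ _
    · exfalso
      apply hpu
      have hcop : Nat.Coprime p q := (Nat.coprime_primes hp hqp).mpr hpq
      have hq0 : (q : R) = 0 := by
        apply IsFractionRing.injective R (FractionRing R)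
        rw [map_natCast, map_zero]
        exact CharP.cast_eq_zero _ _
      have h1 := congrArg (Int.cast (R := R)) (Nat.gcd_eq_gcd_ab p q)
      rw [Nat.Coprime.gcd_eq_one hcop] at h1
      push_cast at h1
      rw [hq0, zero_mul, add_zero] at h1
      exact IsUnit.of_mul_eq_one _ h1.symm
  · left
    exact CharP.charP_to_charZero _

variable {d p : ℕ} [hp : Fact p.Prime]

theorem exists_dec (hpu : ¬ IsUnit (p : R)) {δ : R} (hδ : δ ≠ 0) (hδp : δ ∣ (p : R))
    (B : MvPolynomial (Fin d) R) :
    ∃ (H : (Fin d → Fin p) → MvPolynomial (Fin d) R) (T : MvPolynomial (Fin d) R),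
      B = ∑ α, monomial (ex α) 1 * H α ^ p + C δ * T := by
  classical
  have hp0 : p ≠ 0 := hp.out.ne_zero
  induction B using MvPolynomial.induction_on' with
  | monomial m c =>
    obtain ⟨α, β, rfl⟩ := exists_ex (p := p) m
    obtain ⟨z, hz⟩ := K26.SemiLin.exists_solution_approx (R := R) (K := FractionRing R) hp.out
      (char_cases hp.out hpu) (r := 1) (fun _ _ => 0) (fun _ => c) δ hδ
    obtain ⟨t, ht⟩ := hz 0
    refine ⟨fun γ => if γ = α then monomial β (z 0) else 0, monomial (ex α + p • β) (-t), ?_⟩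
    rw [Finset.sum_eq_single α]
    · change _ = _ * (if α = α then _ else _) ^ p + _
      rw [if_pos rfl, monomial_pow, monomial_mul, one_mul, C_mul_monomial, ← map_add]
      congr 1
      simp only [Fin.sum_univ_one, zero_mul, sub_zero] at ht
      linear_combination -ht
    · intro γ _ hγ
      change _ * (if γ = α then _ else _) ^ p = _
      rw [if_neg hγ, zero_pow hp0, mul_zero]
    · intro h; exact absurd (Finset.mem_univ _) h
  | add B B' h h' =>
    obtain ⟨H, T, hH⟩ := h
    obtain ⟨H', T', hH'⟩ := h'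
    obtain ⟨c, hc⟩ := hδp
    choose r hr using fun α => exists_add_pow_prime_eq hp.out (H α) (H' α)
    have h1 : (p : MvPolynomial (Fin d) R) = C δ * C c := by
      rw [← map_mul, ← hc, map_natCast]
    refine ⟨fun α => H α + H' α,
      T + T' - C c * ∑ α, monomial (ex α) 1 * (H α * H' α * r α), ?_⟩
    conv_lhs => rw [hH, hH']
    simp only [hr, mul_add, Finset.sum_add_distrib, Finset.mul_sum, mul_sub]
    simp only [h1]
    have h2 : ∀ α : Fin d → Fin p, (monomial (ex α)) (1 : R) * (C δ * C c * H α * H' α * r α) =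
        C δ * (C c * ((monomial (ex α)) 1 * (H α * H' α * r α))) := fun α => by ring
    simp only [h2]
    ring

end dec

end K268.Gauss

namespace K26.Stab

open MvPolynomial K268.Gauss

variable {R : Type u} [CommRing R] [IsDomain R] [ValuationRing R] [IsSepClosed (FractionRing R)]
  {N : Type u} [Field N] [Algebra R N] {Γ₀ : Type u} [LinearOrderedCommGroupWithZero Γ₀] {v : Valuation N Γ₀}

section

variable (hB : Base₀ R v) {d : ℕ} (x : Fin d → N)
    (hx : ∀ P : MvPolynomial (Fin d) R, (∃ m, IsUnit (P.coeff m)) → v (MvPolynomial.aeval x P) = 1)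

include hB hx

omit [IsDomain R] [ValuationRing R] [IsSepClosed (FractionRing R)] hB in
theorem gauss_val {P : MvPolynomial (Fin d) R} {r : R} {P' : MvPolynomial (Fin d) R} (h : Prim P')
    (hP : P = C r * P') : v (aeval x P) = v (algebraMap R N r) := by
  rw [hP, map_mul, map_mul, hx P' h, mul_one, algHom_C]

omit [IsSepClosed (FractionRing R)] in
theorem gauss_le (P : MvPolynomial (Fin d) R) : v (aeval x P) ≤ 1 := by
  by_cases hP : P = 0
  · rw [hP, map_zero, map_zero]; exact zero_le
  · obtain ⟨r, P', _, h1, h2⟩ := exists_prim P hP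
    rw [gauss_val x hx h1 h2]
    exact hB.le _

omit [IsSepClosed (FractionRing R)] in
theorem gauss_lt_iff (P : MvPolynomial (Fin d) R) : v (aeval x P) < 1 ↔ ¬ Prim P := by
  constructor
  · intro h h'
    exact absurd (hx P h') h.ne
  · intro h
    by_cases hP : P = 0
    · rw [hP, map_zero, map_zero]; exact zero_lt_one
    · obtain ⟨r, P', hr, h1, h2⟩ := exists_prim P hP
      rw [gauss_val x hx h1 h2]
      refine hB.lt _ fun hru => h ?_
      obtain ⟨m, hm⟩ := h1
      refine ⟨m, ?_⟩
      rw [h2, coeff_C_mul]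
      exact hru.mul hm

omit [IsSepClosed (FractionRing R)] in
theorem gauss_ne_zero {P : MvPolynomial (Fin d) R} (hP : P ≠ 0) : aeval x P ≠ 0 := by
  obtain ⟨r, P', hr, h1, h2⟩ := exists_prim P hP
  have h3 := gauss_val x hx h1 h2
  intro h4
  rw [h4, map_zero] at h3
  have h5 := (Valuation.zero_iff v).mp h3.symm
  rw [map_eq_zero_iff _ hB.inj] at h5
  exact hr h5

omit [IsDomain R] [ValuationRing R] [IsSepClosed (FractionRing R)] hB hx in
theorem aeval_mem (P : MvPolynomial (Fin d) R) :
    aeval x P ∈ Subfield.closure (Set.range (algebraMap R N) ∪ Set.range x) := by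
  induction P using MvPolynomial.induction_on with
  | C a => rw [algHom_C]; exact Subfield.subset_closure (Or.inl ⟨a, rfl⟩)
  | add P Q hP hQ => rw [map_add]; exact add_mem hP hQ
  | mul_X P i hP => rw [map_mul, aeval_X]; exact mul_mem hP (Subfield.subset_closure (Or.inr ⟨i, rfl⟩))

omit [IsSepClosed (FractionRing R)] in
/-- Elements of the closure are fractions. -/
theorem gauss_frac {y : N} (hy : y ∈ Subfield.closure (Set.range (algebraMap R N) ∪ Set.range x)) :
    ∃ P Q : MvPolynomial (Fin d) R, Q ≠ 0 ∧ y * aeval x Q = aeval x P := by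
  have h1 : Subring.closure (Set.range (algebraMap R N) ∪ Set.range x) ≤
      (aeval x : MvPolynomial (Fin d) R →ₐ[R] N).toRingHom.range := by
    rw [Subring.closure_le]
    rintro z (⟨a, rfl⟩ | ⟨i, rfl⟩)
    · exact ⟨C a, algHom_C _ _⟩
    · exact ⟨X i, aeval_X _ _⟩
  rw [Subfield.mem_closure_iff] at hy
  obtain ⟨a, ha, b, hb, rfl⟩ := hy
  obtain ⟨P, rfl⟩ := h1 ha
  obtain ⟨Q, rfl⟩ := h1 hb
  by_cases hQ : Q = 0
  · exact ⟨0, 1, one_ne_zero, by rw [hQ]; simp⟩
  · refine ⟨P, Q, hQ, ?_⟩
    change (aeval x P) / (aeval x Q) * _ = _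
    rw [div_mul_cancel₀ _ (gauss_ne_zero hB x hx hQ)]

omit [IsSepClosed (FractionRing R)] in
theorem gauss_int {y : N} (hy : y ∈ Subfield.closure (Set.range (algebraMap R N) ∪ Set.range x))
    (hvy : v y ≤ 1) :
    ∃ P Q : MvPolynomial (Fin d) R, Prim Q ∧ y * aeval x Q = aeval x P := by
  obtain ⟨P, Q, hQ, h1⟩ := gauss_frac hB x hx hy
  by_cases hP : P = 0
  · refine ⟨0, 1, prim_one, ?_⟩
    rw [hP, map_zero, mul_eq_zero] at h1
    rcases h1 with h1 | h1
    · rw [h1]; simp
    · exact absurd h1 (gauss_ne_zero hB x hx hQ)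
  obtain ⟨a, P', ha, hP', hPa⟩ := exists_prim P hP
  obtain ⟨b, Q', hb, hQ', hQb⟩ := exists_prim Q hQ
  have hb' : algebraMap R N b ≠ 0 := by rwa [ne_eq, map_eq_zero_iff _ hB.inj]
  have hle : v (algebraMap R N a) ≤ v (algebraMap R N b) := by
    rw [← gauss_val x hx hP' hPa, ← gauss_val x hx hQ' hQb, ← h1, map_mul]
    exact mul_le_of_le_one_left' hvy
  have hdvd : b ∣ a := by
    rcases ValuationRing.dvd_total a b with ⟨c, hc⟩ | h
    · have hcu : IsUnit c := by
        by_contra hcu
        have h2 := hB.lt c hcu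
        have ha' : v (algebraMap R N a) ≠ 0 := by
          rw [Valuation.ne_zero_iff, ne_eq, map_eq_zero_iff _ hB.inj]; exact ha
        rw [hc, map_mul, map_mul] at hle
        have h3 : v (algebraMap R N a) * v (algebraMap R N c) < v (algebraMap R N a) * 1 :=
          mul_lt_mul_of_pos_left h2 (zero_lt_iff.mpr ha')
        rw [mul_one] at h3
        exact absurd hle (not_le.mpr h3)
      obtain ⟨u, rfl⟩ := hcu
      exact ⟨(↑u⁻¹ : R), by rw [hc, mul_assoc, Units.mul_inv, mul_one]⟩
    · exact h
  obtain ⟨c, rfl⟩ := hdvd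
  refine ⟨C c * P', Q', hQ', ?_⟩
  rw [hPa, hQb] at h1
  simp only [map_mul, algHom_C] at h1 ⊢
  apply mul_left_cancel₀ hb'
  linear_combination h1

omit [IsSepClosed (FractionRing R)] in
/-- Common denominators. -/
theorem gauss_common {ι : Type*} (s : Finset ι) (y : ι → N)
    (hy : ∀ i ∈ s, y i ∈ Subfield.closure (Set.range (algebraMap R N) ∪ Set.range x) ∧ v (y i) ≤ 1) :
    ∃ Q : MvPolynomial (Fin d) R, Prim Q ∧ ∀ i ∈ s, ∃ P : MvPolynomial (Fin d) R,
      y i * aeval x Q = aeval x P := by
  classical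
  induction s using Finset.induction_on with
  | empty => exact ⟨1, prim_one, by simp⟩
  | insert i s hi ih =>
    obtain ⟨Q, hQ, h1⟩ := ih fun j hj => hy j (Finset.mem_insert_of_mem hj)
    obtain ⟨P', Q', hQ', h2⟩ := gauss_int hB x hx (hy i (Finset.mem_insert_self _ _)).1
      (hy i (Finset.mem_insert_self _ _)).2
    refine ⟨Q * Q', hQ.mul hQ', fun j hj => ?_⟩
    rcases Finset.mem_insert.mp hj with rfl | hj
    · refine ⟨P' * Q, ?_⟩
      rw [map_mul, map_mul, ← h2]; ring
    · obtain ⟨P, hP⟩ := h1 j hj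
      refine ⟨P * Q', ?_⟩
      rw [map_mul, map_mul, ← hP]; ring

end

theorem gauss (hB : Base₀ R v) {d : ℕ} (x : Fin d → N)
    (hx : ∀ P : MvPolynomial (Fin d) R, (∃ m, IsUnit (P.coeff m)) → v (MvPolynomial.aeval x P) = 1) :
    (∀ y ∈ Subfield.closure (Set.range (algebraMap R N) ∪ Set.range x), v y ≤ 1 →
      ∃ r : R, v (algebraMap R N r) = v y) ∧
    ∀ p : ℕ, p.Prime → ¬ IsUnit (p : R) → ¬ IsField R →
      Good R v p (Subfield.closure (Set.range (algebraMap R N) ∪ Set.range x)) := by
  classical
  constructor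
  · intro y hy hvy
    obtain ⟨P, Q, hQ, h1⟩ := gauss_int hB x hx hy hvy
    have h2 : v y = v (aeval x P) := by rw [← h1, map_mul, hx Q hQ, mul_one]
    by_cases hP : P = 0
    · refine ⟨0, ?_⟩
      rw [h2, hP]; simp
    · obtain ⟨r, P', _, hP', hr⟩ := exists_prim P hP
      exact ⟨r, by rw [h2, gauss_val x hx hP' hr]⟩
  · intro p hp hpu _
    have hpf : Fact p.Prime := ⟨hp⟩
    have hp0 : p ≠ 0 := hp.ne_zero
    let J := Fin d → Fin p
    let θ : J → N := fun α => aeval x (monomial (ex α) (1 : R))
    let j₀ : J := fun _ => ⟨0, hp.pos⟩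
    have hj₀ : ex j₀ = 0 := by ext i; rfl
    have hθF : ∀ j, θ j ∈ Subfield.closure (Set.range (algebraMap R N) ∪ Set.range x) :=
      fun j => aeval_mem x _
    refine ⟨J, inferInstance, θ, j₀, ⟨hθF, fun j => gauss_le hB x hx _, ?_, ?_, ?_⟩⟩
    · change aeval x (monomial (ex j₀) (1 : R)) = 1
      rw [hj₀]
      exact map_one _
    · -- independence
      intro h hF hv hlt
      obtain ⟨Q, hQ, h1⟩ := gauss_common hB x hx Finset.univ h fun j _ => ⟨hF j, hv j⟩
      choose P hP using fun j => h1 j (Finset.mem_univ j)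
      have hQv : v (aeval x Q) = 1 := hx Q hQ
      have h2 : (∑ j, θ j * h j ^ p) * (aeval x Q) ^ p =
          aeval x (∑ j, monomial (ex j) 1 * P j ^ p) := by
        rw [map_sum, Finset.sum_mul]
        refine Finset.sum_congr rfl fun j _ => ?_
        rw [map_mul, map_pow, ← hP j]
        change θ j * _ * _ = θ j * _
        ring
      have h3 : v (aeval x (∑ j, monomial (ex j) (1 : R) * P j ^ p)) < 1 := by
        rw [← h2, map_mul, map_pow, hQv, one_pow, mul_one]; exact hlt
      rw [gauss_lt_iff hB x hx, prim_iff, not_not, map_sum] at h3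
      have hchar : CharP (IsLocalRing.ResidueField R) p := by
        have h4 : (p : IsLocalRing.ResidueField R) = 0 := by
          rw [← map_natCast (IsLocalRing.residue R), IsLocalRing.residue_eq_zero_iff]
          exact hpu
        exact (CharP.charP_iff_prime_eq_zero hp).mpr h4
      intro j
      have h5 := eq_zero_of_sum (fun j => MvPolynomial.map (IsLocalRing.residue R) (P j)) (by
        rw [← h3]
        refine Finset.sum_congr rfl fun j _ => ?_
        rw [map_mul, map_monomial, map_pow, map_one (IsLocalRing.residue R)]) j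
      have h6 : v (aeval x (P j)) < 1 := by
        rw [gauss_lt_iff hB x hx, prim_iff, not_not]; exact h5
      rwa [← hP j, map_mul, hQv, mul_one] at h6
    · -- decomposition
      intro δ hδ hδp S hS
      obtain ⟨Q, hQ, h1⟩ := gauss_common hB x hx S id hS
      have hQv : v (aeval x Q) = 1 := hx Q hQ
      have hQ0 : aeval x Q ≠ 0 := by
        intro h; rw [h, map_zero] at hQv; exact zero_ne_one hQv
      let q : N := (aeval x Q)⁻¹
      have hq : aeval x Q * q = 1 := mul_inv_cancel₀ hQ0
      let D : Subalgebra R N := Algebra.adjoin R (insert q (Set.range x))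
      have hqD : q ∈ D := Algebra.subset_adjoin (Set.mem_insert _ _)
      have hPD : ∀ P : MvPolynomial (Fin d) R, aeval x P ∈ D := by
        intro P
        have h2 : Algebra.adjoin R (Set.range x) ≤ D :=
          Algebra.adjoin_mono (Set.subset_insert _ _)
        apply h2
        rw [Algebra.adjoin_range_eq_range_aeval]
        exact ⟨P, rfl⟩
      have hform : ∀ b ∈ D, ∃ (P : MvPolynomial (Fin d) R) (n : ℕ), b = aeval x P * q ^ n := by
        intro b hb
        induction hb using Algebra.adjoin_induction with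
        | mem y hy =>
          rcases hy with rfl | ⟨i, rfl⟩
          · exact ⟨1, 1, by simp⟩
          · exact ⟨X i, 0, by simp⟩
        | algebraMap r => exact ⟨C r, 0, by rw [algHom_C, pow_zero, mul_one]⟩
        | add a b _ _ ha hb =>
          obtain ⟨P, n, rfl⟩ := ha
          obtain ⟨P', n', rfl⟩ := hb
          refine ⟨P * Q ^ n' + P' * Q ^ n, n + n', ?_⟩
          have e1 : ∀ m : ℕ, (aeval x Q) ^ m * q ^ m = 1 := fun m => by
            rw [← mul_pow, hq, one_pow]
          rw [map_add, map_mul, map_mul, map_pow, map_pow, pow_add]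
          linear_combination (- aeval x P * q ^ n) * e1 n' + (- aeval x P' * q ^ n') * e1 n
        | mul a b _ _ ha hb =>
          obtain ⟨P, n, rfl⟩ := ha
          obtain ⟨P', n', rfl⟩ := hb
          exact ⟨P * P', n + n', by rw [map_mul, pow_add]; ring⟩
      refine ⟨D, ?_, ?_, fun j => hPD _, ?_, ?_⟩
      · have : (insert q (Set.range x)).Finite := (Set.finite_range x).insert q
        exact ⟨this.toFinset, by rw [Set.Finite.coe_toFinset]⟩
      · intro s hs
        obtain ⟨P, hP⟩ := h1 s hs
        have h2 : s = aeval x P * q := by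
          rw [← hP]
          change s = s * _ * _
          rw [mul_assoc, hq, mul_one]
        rw [h2]
        exact D.mul_mem (hPD P) hqD
      · intro b hb
        obtain ⟨P, n, rfl⟩ := hform b hb
        have hqv : v q = 1 := by rw [map_inv₀, hQv, inv_one]
        refine ⟨mul_mem (aeval_mem x P) (pow_mem (inv_mem (aeval_mem x Q)) n), ?_⟩
        rw [map_mul, map_pow, hqv, one_pow, mul_one]
        exact gauss_le hB x hx P
      · intro b hb
        obtain ⟨P, n, rfl⟩ := hform b hb
        obtain ⟨H, T, hH⟩ := exists_dec hpu hδ hδp (P * Q ^ ((p - 1) * n))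
        refine ⟨fun j => aeval x (H j) * q ^ n, fun j => D.mul_mem (hPD _) (D.pow_mem hqD n),
          aeval x T * q ^ (p * n), D.mul_mem (hPD _) (D.pow_mem hqD _), ?_⟩
        have h2 := congrArg (aeval x) hH
        rw [map_mul, map_pow, map_add, map_sum, map_mul, algHom_C] at h2
        have h3 : aeval x P * q ^ n = (aeval x P * (aeval x Q) ^ ((p - 1) * n)) * q ^ (p * n) := by
          have e1 : (aeval x Q) ^ ((p - 1) * n) * q ^ ((p - 1) * n) = 1 := by
            rw [← mul_pow, hq, one_pow]
          have e2 : p * n = (p - 1) * n + n := by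
            obtain ⟨p', rfl⟩ := Nat.exists_eq_succ_of_ne_zero hp0
            rw [Nat.succ_sub_one, Nat.succ_mul]
          rw [e2, pow_add]
          linear_combination (- aeval x P * q ^ n) * e1
        rw [h3, h2, add_mul, Finset.sum_mul]
        congr 1
        · refine Finset.sum_congr rfl fun j _ => ?_
          rw [map_mul, map_pow]
          change θ j * _ * _ = θ j * _
          rw [mul_pow, ← pow_mul, mul_comm n p]
          ring
        · ring

end K26.Stab
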